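import Groth.Agent.Lib.Helper35.FibreTorE

/-!
# From `- ⊗^L κ` to derived base change to the residue field (helper90)
-/

set_option autoImplicit false
set_option linter.unusedSectionVars false
universe u
open CategoryTheory CategoryTheory.Limits DerivedCategory MonoidalCategory TensorProduct
attribute [local instance] HasDerivedCategory.standard

namespace Groth.Agent.Lib.Helper90.RelPerf

open Groth.Agent.Lib.Helper35.TA Groth.Agent.Lib.Helper35.FibreTor

theorem exact_lTensor_of_exact_rTensor {A : Type u} [CommRing A] {X Y Z : Type u}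
    [AddCommGroup X] [Module A X] [AddCommGroup Y] [Module A Y] [AddCommGroup Z] [Module A Z]
    (f : X →ₗ[A] Y) (g : Y →ₗ[A] Z) (N : Type u) [AddCommGroup N] [Module A N]
    (h : Function.Exact (f.rTensor N) (g.rTensor N)) :
    Function.Exact (f.lTensor N) (g.lTensor N) :=
  Function.Exact.of_ladder_linearEquiv_of_exact
    (e₁ := TensorProduct.comm A X N) (e₂ := TensorProduct.comm A Y N)
    (e₃ := TensorProduct.comm A Z N)
    (LinearMap.lTensor_comp_comm f) (LinearMap.lTensor_comp_comm g) h


section General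

variable (A : Type u) [CommRing A] (k : Type u) [CommRing k] [Algebra A k]

set_option backward.isDefEq.respectTransparency false in
theorem exactAt_ext_of_subsingleton_lt [DRing.HasLTensor A (ModuleCat.of A k)]
    (E : DRing.Cx A) (b : ℤ) (hEb : DRing.VanishesAbove E b) (hE : ∀ i, Module.Flat A (E.X i))
    (X : Dual.D A) (e : DRing.toD E ≅ X) (i : ℤ)
    (h : Subsingleton (Dual.HD A ((DRing.LTensor A (ModuleCat.of A k)).obj X) i)) :
    (((ModuleCat.extendScalars.{u, u, u} (algebraMap A k)).mapHomologicalComplex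
      (ComplexShape.up ℤ)).obj E).ExactAt i := by
  obtain ⟨e1⟩ := nonempty_lt_iso_of_flat (ModuleCat.of A k) E b hEb hE
  have hz : IsZero ((homologyFunctor (ModuleCat.{u} A) i).obj
      ((DRing.LTensor A (ModuleCat.of A k)).obj X)) :=
    @ModuleCat.isZero_of_subsingleton _ _ _ h
  have h1 := hz.of_iso ((homologyFunctor (ModuleCat.{u} A) i).mapIso
    ((DRing.LTensor A (ModuleCat.of A k)).mapIso e.symm ≪≫ e1).symm)
  rw [isZero_homology_toD_iff,
    HomologicalComplex.exactAt_iff' _ (i - 1) i (i + 1) (by simp) (by simp),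
    ShortComplex.ShortExact.moduleCat_exact_iff_function_exact] at h1
  have h2 : Function.Exact ((E.d (i - 1) i).hom.rTensor k) ((E.d i (i + 1)).hom.rTensor k) := h1
  have h3 := exact_lTensor_of_exact_rTensor _ _ _ h2
  exact exactAt_ext_of_exact_lTensor k E i h3

set_option backward.isDefEq.respectTransparency false in
theorem subsingleton_hd_lbc_of_exact_lTensor [DRing.HasLBaseChange (algebraMap A k)]
    (E : DRing.Cx A) (b : ℤ) (hEb : DRing.VanishesAbove E b) (hE : ∀ i, Module.Flat A (E.X i))
    (i : ℤ)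
    (h : Function.Exact ((E.d (i - 1) i).hom.lTensor k) ((E.d i (i + 1)).hom.lTensor k)) :
    Subsingleton (Dual.HD k ((DRing.LBaseChange (algebraMap A k)).obj (DRing.toD E)) i) := by
  obtain ⟨e2⟩ := nonempty_lbc_iso_of_flat (algebraMap A k) E b hEb hE
  have h4 := exactAt_ext_of_exact_lTensor k E i h
  have h5 : IsZero ((homologyFunctor (ModuleCat.{u} k) i).obj
      ((DRing.LBaseChange (algebraMap A k)).obj (DRing.toD E))) := by
    refine IsZero.of_iso ?_ ((homologyFunctor (ModuleCat.{u} k) i).mapIso e2)
    rw [isZero_homology_toD_iff]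
    exact h4
  exact ModuleCat.subsingleton_of_isZero h5

theorem isZero_homology_of_hasTorAmplitudeIn (a b : ℤ) (K : Dual.D A)
    (h : DRing.HasTorAmplitudeIn A a b K) (i : ℤ) (hi : i < a ∨ b < i) :
    IsZero ((homologyFunctor (ModuleCat.{u} A) i).obj K) := by
  obtain ⟨E, hv, -, ⟨e⟩⟩ := h
  refine IsZero.of_iso ?_ ((homologyFunctor (ModuleCat.{u} A) i).mapIso e.symm)
  rw [isZero_homology_toD_iff]
  exact exactAt_of_isZero_X E i (hv i hi)

end General

variable (A : Type u) [CommRing A] [IsLocalRing A]

set_option backward.isDefEq.respectTransparency false in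
theorem subsingleton_hd_lbc_residue_of_lt
    [DRing.HasLBaseChange (IsLocalRing.residue A)]
    [DRing.HasLTensor A (ModuleCat.of A (IsLocalRing.ResidueField A))]
    (E : DRing.Cx A) (b : ℤ) (hEb : DRing.VanishesAbove E b) (hE : ∀ i, Module.Flat A (E.X i))
    (X : Dual.D A) (e : DRing.toD E ≅ X) (i : ℤ)
    (h : Subsingleton (Dual.HD A
      ((DRing.LTensor A (ModuleCat.of A (IsLocalRing.ResidueField A))).obj X) i)) :
    Subsingleton (Dual.HD (IsLocalRing.ResidueField A)
      ((DRing.LBaseChange (IsLocalRing.residue A)).obj X) i) := by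
  obtain ⟨e1⟩ := nonempty_lt_iso_of_flat (ModuleCat.of A (IsLocalRing.ResidueField A)) E b hEb hE
  obtain ⟨e2⟩ := nonempty_lbc_iso_of_flat (IsLocalRing.residue A) E b hEb hE
  have hz : IsZero ((homologyFunctor (ModuleCat.{u} A) i).obj
      ((DRing.LTensor A (ModuleCat.of A (IsLocalRing.ResidueField A))).obj X)) :=
    @ModuleCat.isZero_of_subsingleton _ _ _ h
  have h1 := hz.of_iso ((homologyFunctor (ModuleCat.{u} A) i).mapIso
    ((DRing.LTensor A (ModuleCat.of A (IsLocalRing.ResidueField A))).mapIso e.symm ≪≫ e1).symm)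
  rw [isZero_homology_toD_iff,
    HomologicalComplex.exactAt_iff' _ (i - 1) i (i + 1) (by simp) (by simp),
    ShortComplex.ShortExact.moduleCat_exact_iff_function_exact] at h1
  have h2 : Function.Exact ((E.d (i - 1) i).hom.rTensor (IsLocalRing.ResidueField A))
      ((E.d i (i + 1)).hom.rTensor (IsLocalRing.ResidueField A)) := h1
  have h3 := exact_lTensor_of_exact_rTensor _ _ _ h2
  have h4 := exactAt_ext_of_exact_lTensor (IsLocalRing.ResidueField A) E i h3
  have h5 : IsZero ((homologyFunctor (ModuleCat.{u} (IsLocalRing.ResidueField A)) i).obj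
      ((DRing.LBaseChange (IsLocalRing.residue A)).obj X)) := by
    refine IsZero.of_iso ?_ ((homologyFunctor (ModuleCat.{u} (IsLocalRing.ResidueField A)) i).mapIso
      ((DRing.LBaseChange (IsLocalRing.residue A)).mapIso e.symm ≪≫ e2))
    rw [isZero_homology_toD_iff]
    exact h4
  exact ModuleCat.subsingleton_of_isZero h5

end Groth.Agent.Lib.Helper90.RelPerf
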