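import Groth.Agent.Lib.Helper6.PushoutBC
import Groth.Agent.Lib.Helper35.HDIFlat
import Groth.Agent.Lib.Helper6.ShF0

/-!
# Flat base change `R → R'` for a general pushout square, and small tor amplitude lemmas (helper90)
-/

set_option autoImplicit false
set_option linter.unusedSectionVars false
universe u
open CategoryTheory CategoryTheory.Limits DerivedCategory
attribute [local instance] HasDerivedCategory.standard

namespace Groth.Agent.Lib.Helper90.RelPerf

/-- restriction of scalars along a composite, on derived categories. -/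
noncomputable def restrictDCompIso {R S T : Type u} [CommRing R] [CommRing S] [CommRing T]
    (f : R →+* S) (g : S →+* T) (gf : R →+* T) (h : gf = g.comp f) :
    DRing.restrictD g ⋙ DRing.restrictD f ≅ DRing.restrictD gf :=
  (Groth.Agent.Lib.Helper6.ShF.mapDerivedCategoryComp (ModuleCat.restrictScalars.{u} g)
      (ModuleCat.restrictScalars.{u} f)).symm ≪≫
    Groth.Agent.Lib.Helper6.ShF.mapDerivedCategoryIso
      (ModuleCat.restrictScalarsComp'.{u} f g gf h).symm

section TorAmp

variable {A : Type u} [CommRing A]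

theorem hasTorAmplitudeIn_mono {a b a' b' : ℤ} {K : Dual.D A}
    (h : DRing.HasTorAmplitudeIn A a b K) (ha : a' ≤ a) (hb : b ≤ b') :
    DRing.HasTorAmplitudeIn A a' b' K := by
  obtain ⟨E, hv, hfl, he⟩ := h
  exact ⟨E, fun i hi => hv i (by omega), hfl, he⟩

theorem hasTorAmplitudeIn_of_iso {a b : ℤ} {K L : Dual.D A} (e : K ≅ L)
    (h : DRing.HasTorAmplitudeIn A a b K) : DRing.HasTorAmplitudeIn A a b L := by
  obtain ⟨E, hv, hfl, ⟨e'⟩⟩ := h
  exact ⟨E, hv, hfl, ⟨e' ≪≫ e⟩⟩

variable (A) (B : Type u) [CommRing B] [Algebra A B] [Module.Flat A B]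

theorem hasTorAmplitudeIn_restrictD_of_flat (a b : ℤ) (K : Dual.D B)
    (h : DRing.HasTorAmplitudeIn B a b K) :
    DRing.HasTorAmplitudeIn A a b ((DRing.restrictD (algebraMap A B)).obj K) := by
  obtain ⟨E, hv, hfl, ⟨e⟩⟩ := h
  refine ⟨(DRing.restrictCx (algebraMap A B)).obj E, ?_, ?_, ⟨?_⟩⟩
  · intro i hi
    exact (ModuleCat.restrictScalars (algebraMap A B)).map_isZero (hv i hi)
  · intro i
    have := hfl i
    exact Groth.Agent.Lib.Helper35.TA.flat_restrictScalars_of_flat (R := A) (A := B) (E.X i)
  · exact ((ModuleCat.restrictScalars.{u} (algebraMap A B)).mapDerivedCategoryFactors.app E).symm ≪≫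
      (DRing.restrictD (algebraMap A B)).mapIso e

end TorAmp

section Push

open Groth.Agent.Lib.Helper35.DCE

variable (R A R' A' : Type u) [CommRing R] [CommRing A] [Algebra R A] [CommRing R'] [Algebra R R']
  [CommRing A'] [Algebra A A'] [Algebra R' A'] [Algebra R A'] [IsScalarTower R A A']
  [IsScalarTower R R' A'] [Algebra.IsPushout R R' A A']

/-- flat base change for a general pushout square with `R → R'` and `A → A'` flat. -/
theorem nonempty_restrict_LBC_iso_of_flat [Module.Flat R R'] [Module.Flat A A']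
    [DRing.HasLBaseChange (algebraMap A A')] [DRing.HasLBaseChange (algebraMap R R')]
    (K : Dual.D A) :
    Nonempty ((DRing.restrictD (algebraMap R' A')).obj
        ((DRing.LBaseChange (algebraMap A A')).obj K) ≅
      (DRing.LBaseChange (algebraMap R R')).obj
        ((DRing.restrictD (algebraMap R A)).obj K)) := by
  let E := Q.objPreimage K
  let e : Q.obj E ≅ K := Q.objObjPreimageIso K
  have hA : (algebraMap A A').Flat := by
    rw [RingHom.flat_algebraMap_iff]; infer_instance
  have hR : (algebraMap R R').Flat := by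
    rw [RingHom.flat_algebraMap_iff]; infer_instance
  obtain ⟨e1⟩ := Groth.Agent.Lib.Helper35.HDIFlat.nonempty_lbc_iso_of_ringHomFlat
    (algebraMap A A') hA E
  let ER : DRing.Cx R := ((ModuleCat.restrictScalars.{u}
        (algebraMap R A)).mapHomologicalComplex (ComplexShape.up ℤ)).obj E
  obtain ⟨e2⟩ := Groth.Agent.Lib.Helper35.HDIFlat.nonempty_lbc_iso_of_ringHomFlat
    (algebraMap R R') hR ER
  have e3 : (DRing.restrictD (algebraMap R A)).obj (DRing.toD E) ≅ DRing.toD ER :=
    (ModuleCat.restrictScalars.{u} (algebraMap R A)).mapDerivedCategoryFactors.app E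
  have e4 := (ModuleCat.restrictScalars.{u} (algebraMap R' A')).mapDerivedCategoryFactors.app
    (((ModuleCat.extendScalars.{u, u, u}
        (algebraMap A A')).mapHomologicalComplex (ComplexShape.up ℤ)).obj E)
  exact ⟨(DRing.restrictD (algebraMap R' A')).mapIso
      ((DRing.LBaseChange (algebraMap A A')).mapIso e.symm ≪≫ e1) ≪≫ e4 ≪≫
    DerivedCategory.Q.mapIso (Groth.Agent.Lib.Helper6.PushoutBC.bcCxIso R R' A' E).symm ≪≫
    e2.symm ≪≫
    (DRing.LBaseChange (algebraMap R R')).mapIso (e3.symm ≪≫
      (DRing.restrictD (algebraMap R A)).mapIso e)⟩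

end Push

end Groth.Agent.Lib.Helper90.RelPerf
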