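import Mathlib

/-!
# The local rings of the fibres of a polynomial ring are regular (helper90)

For a prime `𝔮` of `R[x_1, …, x_d]` over the prime `p` of `R` the fibre ring
`R[x]_𝔮 / p R[x]_𝔮` is a regular local ring of dimension at most `d`.
-/

set_option autoImplicit false
universe u

namespace Groth.Agent.Lib.Helper90.RelPerf

open TensorProduct

section

variable (R : Type u) [CommRing R] (d : ℕ) (p : Ideal R) [p.IsPrime]

instance fiber_poly_isRegularRing : IsRegularRing (p.Fiber (MvPolynomial (Fin d) R)) :=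
  IsRegularRing.of_ringEquiv
    (MvPolynomial.algebraTensorAlgEquiv R p.ResidueField (σ := Fin d)).toRingEquiv.symm

theorem fiber_poly_dim : ringKrullDim (p.Fiber (MvPolynomial (Fin d) R)) = d := by
  rw [ringKrullDim_eq_of_ringEquiv
      (MvPolynomial.algebraTensorAlgEquiv R p.ResidueField (σ := Fin d)).toRingEquiv,
    MvPolynomial.ringKrullDim_of_isNoetherianRing, ringKrullDim_eq_zero_of_field, zero_add,
    Nat.card_fin]

theorem exists_nat_of_le (x : WithBot ℕ∞) (d : ℕ) (h0 : 0 ≤ x) (h2 : x ≤ d) :
    ∃ d' : ℕ, d' ≤ d ∧ x = d' := by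
  cases x with
  | bot => simp at h0
  | coe x =>
    cases x with
    | top =>
      exfalso
      have : ((⊤ : ℕ∞) : WithBot ℕ∞) ≤ ((d : ℕ∞) : WithBot ℕ∞) := h2
      rw [WithBot.coe_le_coe] at this
      simp at this
    | coe n =>
      refine ⟨n, ?_, rfl⟩
      have : ((n : ℕ∞) : WithBot ℕ∞) ≤ ((d : ℕ∞) : WithBot ℕ∞) := h2
      rw [WithBot.coe_le_coe] at this
      exact_mod_cast this

theorem regular_fibre_aux (q' : Ideal (p.Fiber (MvPolynomial (Fin d) R))) [q'.IsPrime]
    [Algebra (Localization.AtPrime p)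
      (Localization.AtPrime (q'.comap (Algebra.TensorProduct.includeRight :
        MvPolynomial (Fin d) R →ₐ[R] p.Fiber (MvPolynomial (Fin d) R))))]
    [Localization.AtPrime.IsLiesOverAlgebra p (q'.comap (Algebra.TensorProduct.includeRight :
        MvPolynomial (Fin d) R →ₐ[R] p.Fiber (MvPolynomial (Fin d) R)))] :
    IsRegularLocalRing (Localization.AtPrime (q'.comap (Algebra.TensorProduct.includeRight :
        MvPolynomial (Fin d) R →ₐ[R] p.Fiber (MvPolynomial (Fin d) R))) ⧸
      (IsLocalRing.maximalIdeal (Localization.AtPrime p)).map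
        (algebraMap (Localization.AtPrime p) (Localization.AtPrime (q'.comap
          (Algebra.TensorProduct.includeRight :
            MvPolynomial (Fin d) R →ₐ[R] p.Fiber (MvPolynomial (Fin d) R)))))) ∧
    ringKrullDim (Localization.AtPrime (q'.comap (Algebra.TensorProduct.includeRight :
        MvPolynomial (Fin d) R →ₐ[R] p.Fiber (MvPolynomial (Fin d) R))) ⧸
      (IsLocalRing.maximalIdeal (Localization.AtPrime p)).map
        (algebraMap (Localization.AtPrime p) (Localization.AtPrime (q'.comap
          (Algebra.TensorProduct.includeRight :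
            MvPolynomial (Fin d) R →ₐ[R] p.Fiber (MvPolynomial (Fin d) R)))))) ≤ d := by
  have e1 := Ideal.Fiber.localizationAlgEquivQuotient p q'
  have hI : p.map (algebraMap R (Localization.AtPrime (q'.comap
      (Algebra.TensorProduct.includeRight :
        MvPolynomial (Fin d) R →ₐ[R] p.Fiber (MvPolynomial (Fin d) R))))) =
      (IsLocalRing.maximalIdeal (Localization.AtPrime p)).map
        (algebraMap (Localization.AtPrime p) (Localization.AtPrime (q'.comap
          (Algebra.TensorProduct.includeRight :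
            MvPolynomial (Fin d) R →ₐ[R] p.Fiber (MvPolynomial (Fin d) R))))) := by
    rw [← Localization.AtPrime.map_eq_maximalIdeal, Ideal.map_map,
      ← IsScalarTower.algebraMap_eq]
  let e2 := e1.toRingEquiv.trans (Ideal.quotEquivOfEq hI)
  have hreg : IsRegularLocalRing (Localization.AtPrime q') := inferInstance
  refine ⟨IsRegularLocalRing.of_ringEquiv (R := Localization.AtPrime q') e2, ?_⟩
  rw [← ringKrullDim_eq_of_ringEquiv e2,
    IsLocalization.AtPrime.ringKrullDim_eq_height q' (Localization.AtPrime q'),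
    ← fiber_poly_dim R d p]
  exact Ideal.height_le_ringKrullDim_of_ne_top (Ideal.IsPrime.ne_top ‹_›)

theorem regular_fibre (𝔮 : Ideal (MvPolynomial (Fin d) R)) [𝔮.IsPrime] [𝔮.LiesOver p]
    [Algebra (Localization.AtPrime p) (Localization.AtPrime 𝔮)]
    [Localization.AtPrime.IsLiesOverAlgebra p 𝔮] :
    IsRegularLocalRing (Localization.AtPrime 𝔮 ⧸
      (IsLocalRing.maximalIdeal (Localization.AtPrime p)).map
        (algebraMap (Localization.AtPrime p) (Localization.AtPrime 𝔮))) ∧
    ∃ d' : ℕ, d' ≤ d ∧ ringKrullDim (Localization.AtPrime 𝔮 ⧸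
      (IsLocalRing.maximalIdeal (Localization.AtPrime p)).map
        (algebraMap (Localization.AtPrime p) (Localization.AtPrime 𝔮))) = d' := by
  obtain ⟨q', hq'⟩ : ∃ q' : PrimeSpectrum (p.Fiber (MvPolynomial (Fin d) R)),
      𝔮 = q'.asIdeal.comap (Algebra.TensorProduct.includeRight :
        MvPolynomial (Fin d) R →ₐ[R] p.Fiber (MvPolynomial (Fin d) R)) := by
    refine ⟨(PrimeSpectrum.primesOverOrderIsoFiber R (MvPolynomial (Fin d) R) p)
      ⟨𝔮, ⟨inferInstance, inferInstance⟩⟩, ?_⟩
    have h := (PrimeSpectrum.primesOverOrderIsoFiber R (MvPolynomial (Fin d) R) p).symm_apply_apply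
      ⟨𝔮, ⟨inferInstance, inferInstance⟩⟩
    have h2 := congrArg Subtype.val h
    rw [PrimeSpectrum.coe_primesOverOrderIsoFiber_symm_apply] at h2
    exact h2.symm
  subst hq'
  have hq'p : q'.asIdeal.IsPrime := q'.2
  obtain ⟨h1, h2⟩ := regular_fibre_aux R d p q'.asIdeal
  refine ⟨h1, ?_⟩
  have h0 : (0 : WithBot ℕ∞) ≤ ringKrullDim (Localization.AtPrime (q'.asIdeal.comap
      (Algebra.TensorProduct.includeRight :
        MvPolynomial (Fin d) R →ₐ[R] p.Fiber (MvPolynomial (Fin d) R))) ⧸
      (IsLocalRing.maximalIdeal (Localization.AtPrime p)).map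
        (algebraMap (Localization.AtPrime p) (Localization.AtPrime (q'.asIdeal.comap
          (Algebra.TensorProduct.includeRight :
            MvPolynomial (Fin d) R →ₐ[R] p.Fiber (MvPolynomial (Fin d) R)))))) := by
    have := h1.toIsLocalRing
    exact ringKrullDim_nonneg_of_nontrivial
  exact exists_nat_of_le _ d h0 h2

end

end Groth.Agent.Lib.Helper90.RelPerf
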