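import Groth.Agent.S7002
import Groth.Agent.S7100
import Groth.Agent.Lib.Helper35.LBCComp
import Groth.Agent.Lib.Helper35.RegTD
import Groth.Agent.Lib.Helper35.GlobalPerf
import Groth.Agent.Lib.Helper35.FibreTorE
import Groth.Agent.Lib.Helper6.ExactDC
import Groth.Agent.Lib.Helper90.RelPerf.PolyFibre
import Groth.Agent.Lib.Helper90.RelPerf.FlatBCPush
import Groth.Agent.Lib.Helper90.RelPerf.FibreConv

/-!
# `R`-perfectness from bounded below fibres (helper90)
-/

set_option autoImplicit false
set_option linter.unusedSectionVars false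
set_option linter.style.haveILetI false
universe u
open CategoryTheory CategoryTheory.Limits DerivedCategory
attribute [local instance] HasDerivedCategory.standard

namespace Groth.Agent.Lib.Helper90.RelPerf

open Groth.Agent.Lib.Helper35.TA Groth.Agent.Lib.Helper35.FibreTor

section Local

variable (P : Type u) [CommRing P]

/-- a bounded below pseudo-coherent complex whose fibre at `𝔪` has no cohomology in one degree
`i` below the cohomology of the complex has tor amplitude `≥ i + 1` near `𝔪`. -/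
theorem exists_away_TAmp (F : DRing.Cx P) (hF : DRing.IsPseudoCoherent' P (DRing.toD F))
    (a₀ b₀ : ℤ)
    (hFa : ∀ j : ℤ, j < a₀ → IsZero ((homologyFunctor (ModuleCat.{u} P) j).obj (DRing.toD F)))
    (hFb : ∀ j : ℤ, b₀ < j → IsZero ((homologyFunctor (ModuleCat.{u} P) j).obj (DRing.toD F)))
    (𝔪 : Ideal P) [𝔪.IsPrime] [DRing.HasLBaseChange (algebraMap P 𝔪.ResidueField)]
    [∀ f : P, DRing.HasLBaseChange (algebraMap P (Localization.Away f))]
    (i : ℤ) (hi : i < a₀)
    (h : Subsingleton (Dual.HD 𝔪.ResidueField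
      ((DRing.LBaseChange (algebraMap P 𝔪.ResidueField)).obj (DRing.toD F)) i)) :
    ∃ f : P, f ∉ 𝔪 ∧ DRing.HasTorAmplitudeIn (Localization.Away f) (i + 1) b₀
      ((DRing.LBaseChange (algebraMap P (Localization.Away f))).obj (DRing.toD F)) := by
  obtain ⟨f, hf, hrest⟩ := Groth.Agent.S7002.result P 𝔪 i F hF h
  obtain ⟨-, ⟨b, h2⟩, -⟩ := hrest
  refine ⟨f, hf, ?_⟩
  have hφ : (algebraMap P (Localization.Away f)).Flat := by
    rw [RingHom.flat_algebraMap_iff]; infer_instance
  obtain ⟨e0⟩ := Groth.Agent.Lib.Helper35.HDIFlat.nonempty_lbc_iso_of_ringHomFlat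
    (algebraMap P (Localization.Away f)) hφ F
  have hz : ∀ j : ℤ, (j < a₀ ∨ b₀ < j) →
      IsZero ((homologyFunctor (ModuleCat.{u} (Localization.Away f)) j).obj
        ((DRing.LBaseChange (algebraMap P (Localization.Away f))).obj (DRing.toD F))) := by
    intro j hj
    obtain ⟨e1⟩ := Groth.Agent.Lib.Helper35.HDIFlat.nonempty_homology_lbc_iso
      (algebraMap P (Localization.Away f)) hφ (DRing.toD F) j
    refine IsZero.of_iso ?_ e1
    apply Functor.map_isZero
    rcases hj with hj | hj
    · exact hFa j hj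
    · exact hFb j hj
  have hGE : ((DRing.LBaseChange (algebraMap P (Localization.Away f))).obj
      (DRing.toD F)).IsGE (i + 1) := by
    rw [DerivedCategory.isGE_iff]
    intro j hj
    exact hz j (Or.inl (by omega))
  have hLE : ((DRing.LBaseChange (algebraMap P (Localization.Away f))).obj
      (DRing.toD F)).IsLE b₀ := by
    rw [DerivedCategory.isLE_iff]
    intro j hj
    exact hz j (Or.inr hj)
  have hGE' : (DRing.toD (((ModuleCat.extendScalars (algebraMap P
      (Localization.Away f))).mapHomologicalComplex (ComplexShape.up ℤ)).obj F)).IsGE (i + 1) :=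
    TStructure.t.isGE_of_iso e0 (i + 1)
  have hiso := (TStructure.t.isGE_iff_isIso_truncGEπ_app (i + 1) _).mp hGE'
  have h3 : DRing.HasTorAmplitudeIn (Localization.Away f) (i + 1) b
      ((DRing.LBaseChange (algebraMap P (Localization.Away f))).obj (DRing.toD F)) :=
    hasTorAmplitudeIn_of_iso ((@asIso _ _ _ _ _ hiso).symm ≪≫ e0.symm) h2
  exact TAmp.of_isLE h3

end Local

section Global

variable (P : Type u) [CommRing P]

/-- tor amplitude `[a, b]` (for some `a`) is local on `Spec P` for pseudo-coherent objects. -/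
theorem exists_TAmp_of_local (L : Dual.D P) (hL : DRing.IsPseudoCoherent' P L) (b : ℤ)
    [∀ f : P, DRing.HasLBaseChange (algebraMap P (Localization.Away f))]
    (h : ∀ 𝔪 : Ideal P, 𝔪.IsMaximal → ∃ f : P, f ∉ 𝔪 ∧ ∃ a : ℤ,
      DRing.HasTorAmplitudeIn (Localization.Away f) a b
        ((DRing.LBaseChange (algebraMap P (Localization.Away f))).obj L)) :
    ∃ a : ℤ, DRing.HasTorAmplitudeIn P a b L := by
  classical
  let S : Set P := {f | ∃ a : ℤ, DRing.HasTorAmplitudeIn (Localization.Away f) a b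
    ((DRing.LBaseChange (algebraMap P (Localization.Away f))).obj L)}
  have hS : Ideal.span S = ⊤ := by
    by_contra hne
    obtain ⟨𝔪, hm, hle⟩ := Ideal.exists_le_maximal _ hne
    obtain ⟨f, hf, hfa⟩ := h 𝔪 hm
    exact hf (hle (Ideal.subset_span hfa))
  obtain ⟨T, hTS, hT⟩ := (Ideal.span_eq_top_iff_finite S).mp hS
  have hS' : ∀ f : P, f ∈ S → ∃ a : ℤ, DRing.HasTorAmplitudeIn (Localization.Away f) a b
    ((DRing.LBaseChange (algebraMap P (Localization.Away f))).obj L) := fun f hf => hf
  choose! a' ha' using hS'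
  obtain ⟨M, hM⟩ := (T.image (fun f => - a' f)).exists_le
  have ha : ∀ f ∈ T, - M ≤ a' f := fun f hf => by
    have h1 : - a' f ≤ M := hM _ (Finset.mem_image_of_mem (fun f => - a' f) hf)
    omega
  generalize - M = a at ha
  refine ⟨a, ?_⟩
  haveI : ∀ m : Ideal P, DRing.HasLBaseChange (Ideal.Quotient.mk m) := fun m => hasLBaseChange _
  refine (isPerfect_and_TAmp_of_fibres L hL a b ?_).2
  intro 𝔪 hm i hi
  obtain ⟨f, hfT, hf𝔪⟩ : ∃ f ∈ T, f ∉ 𝔪 := by
    by_contra hcon
    push Not at hcon
    have hle : Ideal.span (T : Set P) ≤ 𝔪 := Ideal.span_le.mpr (fun f hf => hcon f hf)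
    rw [hT] at hle
    exact hm.ne_top (top_le_iff.mp hle)
  have hfS : f ∈ S := hTS hfT
  have haf : a ≤ a' f := ha f hfT
  have hu : IsUnit (Ideal.Quotient.mk 𝔪 f) := by
    obtain ⟨y, m, hm', hy⟩ := hm.exists_inv hf𝔪
    refine IsUnit.of_mul_eq_one (Ideal.Quotient.mk 𝔪 y) ?_
    have h1 := congrArg (Ideal.Quotient.mk 𝔪) hy
    rw [map_add, map_mul, Ideal.Quotient.eq_zero_iff_mem.mpr hm', add_zero, map_one] at h1
    rw [mul_comm]
    exact h1
  let ψ' : Localization.Away f →+* P ⧸ 𝔪 := IsLocalization.Away.lift f hu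
  have hcomp : Ideal.Quotient.mk 𝔪 = ψ'.comp (algebraMap P (Localization.Away f)) :=
    (IsLocalization.Away.lift_comp f hu).symm
  haveI := hasLBaseChange ψ'
  obtain ⟨e⟩ := nonempty_LBC_comp_iso (algebraMap P (Localization.Away f)) ψ'
    (Ideal.Quotient.mk 𝔪) hcomp L
  have h1 := TAmp_LBaseChange ψ' _ (a' f) b (ha' f hfS)
  exact isZero_homology_of_hasTorAmplitudeIn _ (a' f) b _ (hasTorAmplitudeIn_of_iso e h1) i
    (by omega)

end Global

section Converse

open MonoidalCategory

variable (R A : Type u) [CommRing R] [CommRing A] [Algebra R A]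

theorem subsingleton_hd_of_hasTorAmplitudeIn_restrictD (K : Dual.D A) (a b : ℤ)
    (h : DRing.HasTorAmplitudeIn R a b ((DRing.restrictD (algebraMap R A)).obj K)) (i : ℤ)
    (hi : i < a ∨ b < i) : Subsingleton (Dual.HD A K i) := by
  have h1 := isZero_homology_of_hasTorAmplitudeIn R a b _ h i hi
  have h2 := h1.of_iso ((Groth.Agent.Lib.Helper6.ExactDC.homologyIso
    (ModuleCat.restrictScalars.{u} (algebraMap R A)) i).app K).symm
  have h3 : Subsingleton ((ModuleCat.restrictScalars.{u} (algebraMap R A)).obj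
      ((homologyFunctor (ModuleCat.{u} A) i).obj K)) := ModuleCat.subsingleton_of_isZero h2
  exact h3

theorem subsingleton_hd_lTensor_of_hasTorAmplitudeIn (M : ModuleCat.{u} R) [DRing.HasLTensor R M]
    (L : Dual.D R) (a b : ℤ) (h : DRing.HasTorAmplitudeIn R a b L) (i : ℤ)
    (hi : i < a ∨ b < i) : Subsingleton (Dual.HD R ((DRing.LTensor R M).obj L) i) := by
  obtain ⟨E, hv, hfl, ⟨e⟩⟩ := h
  obtain ⟨e'⟩ := nonempty_lt_iso_of_flat M E b (fun i hi => hv i (Or.inr hi)) hfl
  have e2 : (DRing.LTensor R M).obj L ≅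
      DRing.toD (((tensorRight M).mapHomologicalComplex (ComplexShape.up ℤ)).obj E) :=
    (DRing.LTensor R M).mapIso e.symm ≪≫ e'
  have h1 : IsZero ((homologyFunctor (ModuleCat.{u} R) i).obj ((DRing.LTensor R M).obj L)) := by
    refine IsZero.of_iso ?_ ((homologyFunctor (ModuleCat.{u} R) i).mapIso e2)
    rw [isZero_homology_toD_iff]
    apply exactAt_of_isZero_X
    exact CategoryTheory.Functor.map_isZero (tensorRight M) (hv i hi)
  exact ModuleCat.subsingleton_of_isZero h1

end Converse

section Main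

attribute [local instance] Algebra.TensorProduct.rightAlgebra

variable (R A : Type u) [CommRing R] [CommRing A] [Algebra R A] [Module.Flat R A]
  [Algebra.FinitePresentation R A]

set_option backward.isDefEq.respectTransparency false in
set_option maxHeartbeats 1000000 in
theorem isRelPerfect_of_fibres
    [hLT : ∀ p : PrimeSpectrum R, DRing.HasLTensor R (ModuleCat.of R p.asIdeal.ResidueField)]
    (K : Dual.D A) (hK : DRing.IsPseudoCoherent' A K) (a₀ : ℤ)
    (h₀ : ∀ i : ℤ, i < a₀ → Subsingleton (Dual.HD A K i))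
    (hfib : ∀ p : PrimeSpectrum R, ∃ a : ℤ, ∀ i : ℤ, i < a →
      Subsingleton (Dual.HD R ((DRing.LTensor R (ModuleCat.of R p.asIdeal.ResidueField)).obj
        ((DRing.restrictD (algebraMap R A)).obj K)) i)) :
    Dual2.IsRelPerfect R A K := by
  obtain ⟨d, ψ, hψ⟩ := Algebra.FiniteType.iff_quotient_mvPolynomial''.mp
    (inferInstance : Algebra.FiniteType R A)
  letI algPA : Algebra (MvPolynomial (Fin d) R) A := ψ.toRingHom.toAlgebra
  haveI towerRPA : IsScalarTower R (MvPolynomial (Fin d) R) A :=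
    IsScalarTower.of_algebraMap_eq (fun r => (ψ.commutes r).symm)
  have hL := ((Groth.Agent.S7100.result R (MvPolynomial (Fin d) R) A hψ K).1).mp hK
  have hL' := hL
  obtain ⟨F, b, hFb, hF, ⟨e⟩⟩ := hL
  have hFflat : ∀ j : ℤ, Module.Flat (MvPolynomial (Fin d) R) (F.X j) := fun j => by
    have := (hF j).2
    infer_instance
  -- cohomology of `F`
  have hFa : ∀ j : ℤ, j < a₀ →
      IsZero ((homologyFunctor (ModuleCat.{u} (MvPolynomial (Fin d) R)) j).obj (DRing.toD F)) := by
    intro j hj
    have h1 : IsZero ((homologyFunctor (ModuleCat.{u} A) j).obj K) :=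
      @ModuleCat.isZero_of_subsingleton _ _ _ (h₀ j hj)
    exact (Groth.Agent.Lib.Helper6.ExactDC.isZero_homology_obj
      (F := ModuleCat.restrictScalars.{u} (algebraMap (MvPolynomial (Fin d) R) A)) K j h1).of_iso
      ((homologyFunctor (ModuleCat.{u} (MvPolynomial (Fin d) R)) j).mapIso e)
  have hFb' : ∀ j : ℤ, b < j →
      IsZero ((homologyFunctor (ModuleCat.{u} (MvPolynomial (Fin d) R)) j).obj (DRing.toD F)) := by
    intro j hj
    rw [isZero_homology_toD_iff]
    exact exactAt_of_isZero_X F j (hFb j hj)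
  -- the restriction to `R`
  let X := (resCx (A := R)).obj F
  have hXb : DRing.VanishesAbove X b := fun j hj =>
    (ModuleCat.restrictScalars.{u}
      (algebraMap R (MvPolynomial (Fin d) R))).map_isZero (hFb j hj)
  have hXflat : ∀ j : ℤ, Module.Flat R (X.X j) := fun j =>
    have := hFflat j
    flat_resCx_X R F j
  have hcomp : algebraMap R A = (algebraMap (MvPolynomial (Fin d) R) A).comp
      (algebraMap R (MvPolynomial (Fin d) R)) := IsScalarTower.algebraMap_eq _ _ _
  have eX : DRing.toD X ≅ (DRing.restrictD (algebraMap R A)).obj K :=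
    ((ModuleCat.restrictScalars.{u} (algebraMap R
      (MvPolynomial (Fin d) R))).mapDerivedCategoryFactors.app F).symm ≪≫
      (DRing.restrictD (algebraMap R (MvPolynomial (Fin d) R))).mapIso e ≪≫
      (restrictDCompIso _ _ _ hcomp).app K
  haveI : ∀ f : MvPolynomial (Fin d) R,
      DRing.HasLBaseChange (algebraMap (MvPolynomial (Fin d) R) (Localization.Away f)) :=
    fun f => hasLBaseChange _
  -- local statement
  have hloc : ∀ 𝔪 : Ideal (MvPolynomial (Fin d) R), 𝔪.IsMaximal →
      ∃ f : MvPolynomial (Fin d) R, f ∉ 𝔪 ∧ ∃ a : ℤ,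
        DRing.HasTorAmplitudeIn (Localization.Away f) a b
          ((DRing.LBaseChange (algebraMap (MvPolynomial (Fin d) R) (Localization.Away f))).obj
            (DRing.toD F)) := by
    intro 𝔪 hm
    haveI : 𝔪.IsPrime := hm.isPrime
    let p : Ideal R := 𝔪.comap (algebraMap R (MvPolynomial (Fin d) R))
    haveI hp : p.IsPrime := Ideal.comap_isPrime _ _
    obtain ⟨ap, hap⟩ := hfib ⟨p, hp⟩
    haveI : DRing.HasLTensor R (ModuleCat.of R p.ResidueField) := hLT ⟨p, hp⟩
    have hex : ∀ i : ℤ, (i < ap ∨ b < i) →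
        (((ModuleCat.extendScalars.{u, u, u} (algebraMap R p.ResidueField)).mapHomologicalComplex
          (ComplexShape.up ℤ)).obj X).ExactAt i := by
      intro i hi
      rcases hi with hi | hi
      · exact exactAt_ext_of_subsingleton_lt R p.ResidueField X b hXb hXflat _ eX i (hap i hi)
      · exact exactAt_of_isZero_X _ i ((ModuleCat.extendScalars.{u, u, u}
          (algebraMap R p.ResidueField)).map_isZero (hXb i hi))
    have hTD : ∀ M : ModuleCat.{u} (TensorProduct R p.ResidueField (MvPolynomial (Fin d) R)),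
        TD d M := fun M =>
      (hasTorDimLE_iff_TD d M).mp
        (Groth.Agent.Lib.Helper35.RegTD.hasTorDimLE_of_isRegularRing d
          (fiber_poly_dim R d p).le M)
    let i₀ : ℤ := min (ap - d) a₀ - 1
    have hex2 := exact_lTensor_residueField_of_exactAt_fibre p.ResidueField d hTD F b hFb hFflat
      ap b hex 𝔪 (Ideal.ResidueField.mapₐ p 𝔪 (Algebra.ofId R (MvPolynomial (Fin d) R)) rfl)
      i₀ (Or.inl (by simp only [i₀]; omega))
    haveI := hasLBaseChange (algebraMap (MvPolynomial (Fin d) R) 𝔪.ResidueField)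
    have hsub := subsingleton_hd_lbc_of_exact_lTensor (MvPolynomial (Fin d) R) 𝔪.ResidueField
      F b hFb hFflat i₀ hex2
    obtain ⟨f, hf, hTA⟩ := exists_away_TAmp (MvPolynomial (Fin d) R) F
      ⟨F, b, hFb, hF, ⟨Iso.refl _⟩⟩ a₀ b hFa hFb' 𝔪 i₀ (by simp only [i₀]; omega) hsub
    exact ⟨f, hf, i₀ + 1, hTA⟩
  obtain ⟨a, hTA⟩ := exists_TAmp_of_local (MvPolynomial (Fin d) R) (DRing.toD F)
    ⟨F, b, hFb, hF, ⟨Iso.refl _⟩⟩ b hloc
  have hTA2 := hasTorAmplitudeIn_restrictD_of_flat R (MvPolynomial (Fin d) R) a b _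
    (hasTorAmplitudeIn_of_iso e hTA)
  exact ⟨hK, a, b, hasTorAmplitudeIn_of_iso ((restrictDCompIso _ _ _ hcomp).app K) hTA2⟩

end Main

end Groth.Agent.Lib.Helper90.RelPerf
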