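import Groth.Agent.S6977
import Groth.Agent.S7100
import Groth.Agent.Lib.Helper90.RelPerf.PolyFibre
import Groth.Agent.Lib.Helper90.RelPerf.FlatBCPush
import Groth.Agent.Lib.Helper90.RelPerf.FibreConv

/-!
# Tor amplitude of a localization from a bound on the fibre (helper90)
-/

set_option autoImplicit false
set_option linter.unusedSectionVars false
set_option linter.style.haveILetI false
universe u
open CategoryTheory CategoryTheory.Limits DerivedCategory
attribute [local instance] HasDerivedCategory.standard

namespace Groth.Agent.Lib.Helper90.RelPerf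

open Groth.Agent.Lib.Helper35.TA Groth.Agent.Lib.Helper35.FibreTor

theorem isPseudoCoherent'_of_iso {A : Type u} [CommRing A] {K L : Dual.D A} (e : K ≅ L)
    (h : DRing.IsPseudoCoherent' A K) : DRing.IsPseudoCoherent' A L := by
  obtain ⟨E, b, hb, hE, ⟨e'⟩⟩ := h
  exact ⟨E, b, hb, hE, ⟨e' ≪≫ e⟩⟩

set_option backward.isDefEq.respectTransparency false in
set_option maxHeartbeats 800000 in
theorem main (R A : Type u) [CommRing R] [CommRing A] [Algebra R A]
    [Module.Flat R A] [Algebra.FinitePresentation R A] (d : ℕ)
    [Algebra (MvPolynomial (Fin d) R) A] [IsScalarTower R (MvPolynomial (Fin d) R) A]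
    (hφ : Function.Surjective (algebraMap (MvPolynomial (Fin d) R) A))
    (q : Ideal A) [q.IsPrime] (p : Ideal R) [p.IsPrime] (hpq : p = Ideal.comap (algebraMap R A) q)
    (𝔮 : Ideal (MvPolynomial (Fin d) R)) [𝔮.IsPrime] [𝔮.LiesOver p] [q.LiesOver 𝔮]
    [DRing.HasLBaseChange (algebraMap A (Localization.AtPrime q))]
    [DRing.HasLTensor (Localization.AtPrime p)
      (ModuleCat.of (Localization.AtPrime p) p.ResidueField)]
    (K : Dual.D A) (hK : DRing.IsPseudoCoherent' A K) (a b : ℤ)
    (hfib : ∀ i : ℤ, i < a ∨ b < i → Subsingleton (Dual.HD (Localization.AtPrime p)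
      ((DRing.LTensor (Localization.AtPrime p)
        (ModuleCat.of (Localization.AtPrime p) p.ResidueField)).obj
        ((DRing.restrictD (Localization.localRingHom p q (algebraMap R A) hpq)).obj
          ((DRing.LBaseChange (algebraMap A (Localization.AtPrime q))).obj K))) i)) :
    DRing.HasTorAmplitudeIn R (a - d) b
      ((DRing.restrictD (algebraMap R (Localization.AtPrime q))).obj
        ((DRing.LBaseChange (algebraMap A (Localization.AtPrime q))).obj K)) := by
  haveI qlop : q.LiesOver p := ⟨hpq⟩
  letI alg1 : Algebra (Localization.AtPrime p) (Localization.AtPrime 𝔮) :=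
    Localization.AtPrime.algebraOfLiesOver p 𝔮
  letI alg2 : Algebra (Localization.AtPrime 𝔮) (Localization.AtPrime q) :=
    Localization.AtPrime.algebraOfLiesOver 𝔮 q
  letI alg3 : Algebra (Localization.AtPrime p) (Localization.AtPrime q) :=
    Localization.AtPrime.algebraOfLiesOver p q
  haveI : IsLocalHom (algebraMap (Localization.AtPrime p) (Localization.AtPrime 𝔮)) :=
    Localization.isLocalHom_localRingHom p 𝔮 (algebraMap R (MvPolynomial (Fin d) R))
      Ideal.LiesOver.over
  -- Step A : `K` is pseudo-coherent over the polynomial ring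
  have hKP : DRing.IsPseudoCoherent' (MvPolynomial (Fin d) R)
      ((DRing.restrictD (algebraMap (MvPolynomial (Fin d) R) A)).obj K) :=
    ((Groth.Agent.S7100.result R (MvPolynomial (Fin d) R) A hφ K).1).mp hK
  -- Step B : localize at `𝔮`
  haveI := hasLBaseChange (algebraMap (MvPolynomial (Fin d) R) (Localization.AtPrime 𝔮))
  have hK'' := isPseudoCoherent'_LBaseChange
    (algebraMap (MvPolynomial (Fin d) R) (Localization.AtPrime 𝔮)) _ hKP
  -- Step C : flat base change
  haveI hloc : IsLocalization (Algebra.algebraMapSubmonoid A 𝔮.primeCompl)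
      (Localization.AtPrime q) := by
    rw [Ideal.algebraMapSubmonoid_primeCompl_of_liesOver_surjective q 𝔮 hφ]
    infer_instance
  haveI hpo : Algebra.IsPushout (MvPolynomial (Fin d) R) (Localization.AtPrime 𝔮) A
      (Localization.AtPrime q) :=
    (Algebra.isPushout_of_isLocalization 𝔮.primeCompl (Localization.AtPrime 𝔮) A
      (Localization.AtPrime q)).symm
  obtain ⟨eC⟩ := nonempty_restrict_LBC_iso_of_flat (MvPolynomial (Fin d) R) A
    (Localization.AtPrime 𝔮) (Localization.AtPrime q) K
  have hK' : DRing.IsPseudoCoherent' (Localization.AtPrime 𝔮)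
      ((DRing.restrictD (algebraMap (Localization.AtPrime 𝔮) (Localization.AtPrime q))).obj
        ((DRing.LBaseChange (algebraMap A (Localization.AtPrime q))).obj K)) :=
    isPseudoCoherent'_of_iso eC.symm hK''
  -- the regular fibre
  obtain ⟨hreg, d', hd'd, hd'⟩ := regular_fibre R d p 𝔮
  haveI := hreg
  haveI := hasLBaseChange (IsLocalRing.residue (Localization.AtPrime p))
  -- Step D : the fibre hypothesis
  have hfib' : ∀ i : ℤ, (i < a ∨ b < i) →
      Subsingleton (Dual.HD (IsLocalRing.ResidueField (Localization.AtPrime p))
        ((DRing.LBaseChange (IsLocalRing.residue (Localization.AtPrime p))).obj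
          ((DRing.restrictD (algebraMap (Localization.AtPrime p) (Localization.AtPrime 𝔮))).obj
            ((DRing.restrictD (algebraMap (Localization.AtPrime 𝔮) (Localization.AtPrime q))).obj
              ((DRing.LBaseChange (algebraMap A (Localization.AtPrime q))).obj K)))) i) := by
    intro i hi
    obtain ⟨F', b', hF'b, hF', ⟨e'⟩⟩ := hK'
    have hF'flat : ∀ j : ℤ, Module.Flat (Localization.AtPrime 𝔮) (F'.X j) := fun j => by
      have := (hF' j).2
      infer_instance
    let E := (resCx (A := Localization.AtPrime p)).obj F'
    have hEb : DRing.VanishesAbove E b' := fun j hj =>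
      (ModuleCat.restrictScalars.{u}
        (algebraMap (Localization.AtPrime p) (Localization.AtPrime 𝔮))).map_isZero (hF'b j hj)
    have hEflat : ∀ j : ℤ, Module.Flat (Localization.AtPrime p) (E.X j) := fun j =>
      have := hF'flat j
      flat_resCx_X (Localization.AtPrime p) F' j
    have e : DRing.toD E ≅ (DRing.restrictD
        (algebraMap (Localization.AtPrime p) (Localization.AtPrime 𝔮))).obj
          ((DRing.restrictD (algebraMap (Localization.AtPrime 𝔮) (Localization.AtPrime q))).obj
            ((DRing.LBaseChange (algebraMap A (Localization.AtPrime q))).obj K)) :=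
      ((ModuleCat.restrictScalars.{u} (algebraMap (Localization.AtPrime p)
        (Localization.AtPrime 𝔮))).mapDerivedCategoryFactors.app F').symm ≪≫
        (DRing.restrictD (algebraMap (Localization.AtPrime p)
          (Localization.AtPrime 𝔮))).mapIso e'
    refine subsingleton_hd_lbc_residue_of_lt (Localization.AtPrime p) E b' hEb hEflat _ e i ?_
    have hcomp : algebraMap (Localization.AtPrime p) (Localization.AtPrime q) =
        (algebraMap (Localization.AtPrime 𝔮) (Localization.AtPrime q)).comp
          (algebraMap (Localization.AtPrime p) (Localization.AtPrime 𝔮)) :=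
      IsScalarTower.algebraMap_eq _ _ _
    have e3 := (restrictDCompIso _ _ _ hcomp).app
      ((DRing.LBaseChange (algebraMap A (Localization.AtPrime q))).obj K)
    have hz : IsZero ((homologyFunctor (ModuleCat.{u} (Localization.AtPrime p)) i).obj
        ((DRing.LTensor (Localization.AtPrime p)
          (ModuleCat.of (Localization.AtPrime p) p.ResidueField)).obj
          ((DRing.restrictD (algebraMap (Localization.AtPrime p) (Localization.AtPrime q))).obj
            ((DRing.LBaseChange (algebraMap A (Localization.AtPrime q))).obj K)))) :=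
      @ModuleCat.isZero_of_subsingleton _ _ _ (hfib i hi)
    exact ModuleCat.subsingleton_of_isZero (hz.of_iso
      ((homologyFunctor (ModuleCat.{u} (Localization.AtPrime p)) i).mapIso
        ((DRing.LTensor (Localization.AtPrime p)
          (ModuleCat.of (Localization.AtPrime p) p.ResidueField)).mapIso e3)))
  -- Step E : apply the local criterion
  obtain ⟨-, hTA⟩ := Groth.Agent.S6977.result (A := Localization.AtPrime p)
    (B := Localization.AtPrime 𝔮) d' hd' a b _ hK' hfib'
  have hTA2 := hasTorAmplitudeIn_mono hTA (a' := a - d) (b' := b) (by omega) le_rfl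
  have hTA3 := hasTorAmplitudeIn_restrictD_of_flat R (Localization.AtPrime 𝔮) (a - d) b _ hTA2
  have hcomp2 : algebraMap R (Localization.AtPrime q) =
      (algebraMap (Localization.AtPrime 𝔮) (Localization.AtPrime q)).comp
        (algebraMap R (Localization.AtPrime 𝔮)) :=
    IsScalarTower.algebraMap_eq _ _ _
  exact hasTorAmplitudeIn_of_iso ((restrictDCompIso _ _ _ hcomp2).app _) hTA3

end Groth.Agent.Lib.Helper90.RelPerf
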